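import Groth.Agent.Lib.FlatBC.Basic

/-!
# Flat base change of direct images of quasi-coherent modules along qcqs morphisms
-/

set_option autoImplicit false
set_option linter.all false
set_option backward.isDefEq.respectTransparency false
set_option maxHeartbeats 1000000

universe u

open CategoryTheory AlgebraicGeometry Opposite TopologicalSpace TensorProduct
open Scheme.Modules (pullback pushforward)

noncomputable section

namespace GrothLib.FlatBC

variable {X S X' S' : Scheme.{u}} {f : X ⟶ S} {g : S' ⟶ S} {g' : X' ⟶ X} {f' : X' ⟶ S'}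

/-- The base change map is bijective on small affine opens. -/
theorem bijective_bcMap_app (h : IsPullback g' f' f g) [QuasiCompact f] [QuasiSeparated f] [Flat g]
    (F : X.Modules) [F.IsQuasicoherent] {V : S.Opens} (hV : IsAffineOpen V) {W : S'.Opens} (hW : IsAffineOpen W)
    (hle : W ≤ g ⁻¹ᵁ V) : Function.Bijective ((AffBC.bcMap h F).app W) := by
  haveI := QCoh.isQuasicoherent_pushforward f F
  have hflat : (g.appLE V W hle).hom.Flat := g.flat_appLE hV hW hle
  have hUc : IsCompact ((f ⁻¹ᵁ V : X.Opens) : Set X) := f.isCompact_preimage hV.isCompact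
  have hqs : IsQuasiSeparated ((f ⁻¹ᵁ V : X.Opens) : Set X) :=
    f.isQuasiSeparated_preimage hV.isQuasiSeparated
  obtain ⟨hi, hs⟩ := bij_of_isCompact h F hle hV hW hflat hqs hUc le_rfl
  have hP : f' ⁻¹ᵁ W ≤ upU g' f' W (f ⁻¹ᵁ V) := le_inf (AffBC.preimage_le h hle) le_rfl
  have hPeq : upU g' f' W (f ⁻¹ᵁ V) = f' ⁻¹ᵁ W := le_antisymm inf_le_right hP
  let G' := (pullback g').obj F
  letI : Algebra Γ(S, V) Γ(S', W) := (g.appLE V W hle).hom.toAlgebra
  letI : Module Γ(S, V) (secM f' G' W (upU g' f' W (f ⁻¹ᵁ V)) inf_le_right) :=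
    Module.compHom _ (g.appLE V W hle).hom
  haveI : IsScalarTower Γ(S, V) Γ(S', W) (secM f' G' W (upU g' f' W (f ⁻¹ᵁ V)) inf_le_right) :=
    IsScalarTower.of_algebraMap_smul fun _ _ => rfl
  unfold Inj at hi
  unfold Surj at hs
  set θ := (pullHom h F hle (le_refl (f ⁻¹ᵁ V))).liftBaseChange Γ(S', W) with hθ
  let r : secM f' G' W (upU g' f' W (f ⁻¹ᵁ V)) inf_le_right → Γ(G', f' ⁻¹ᵁ W) := fun x =>
    G'.presheaf.map (homOfLE hP).op (show Γ(G', upU g' f' W (f ⁻¹ᵁ V)) from x)
  have key0 : ∀ (T : X'.Opens) (hh : f' ⁻¹ᵁ W ≤ T), T = f' ⁻¹ᵁ W → Function.Bijective (G'.presheaf.map (homOfLE hh).op) := by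
    rintro _ hh rfl
    have : homOfLE hh = 𝟙 _ := rfl
    rw [this, op_id, CategoryTheory.Functor.map_id]
    exact Function.bijective_id
  have hr : Function.Bijective r := key0 _ hP hPeq
  let ι : Γ((pushforward f).obj F, V) ≃ₗ[Γ(S, V)] secM f F V (f ⁻¹ᵁ V) le_rfl :=
    { toFun := fun x => (show Γ(F, f ⁻¹ᵁ V) from x)
      invFun := fun x => (show Γ(F, f ⁻¹ᵁ V) from x)
      map_add' := fun _ _ => rfl
      map_smul' := fun a x => by
        refine (QCoh.pushforward_smul f F a x).trans ?_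
        rw [← Scheme.Hom.appLE_eq_app]
        rfl
      left_inv := fun _ => rfl
      right_inv := fun _ => rfl }
  let σ := QCoh.sectionsMap g ((pushforward f).obj F) hle rfl
  have hσ := QCoh.bijective_sectionsMap g ((pushforward f).obj F) hle rfl hV hW
  have key : ∀ z, (AffBC.bcMap h F).app W (σ z) = r (θ ((ι.lTensor Γ(S', W)) z)) := by
    intro z
    induction z using TensorProduct.induction_on with
    | zero =>
      rw [map_zero, map_zero, map_zero, map_zero]
      exact (map_zero (G'.presheaf.map (homOfLE hP).op).hom).symm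
    | add a b ha hb =>
      rw [map_add, map_add, map_add, map_add, ha, hb]
      exact (map_add (G'.presheaf.map (homOfLE hP).op).hom _ _).symm
    | tmul b s =>
      rw [LinearEquiv.lTensor_tmul]
      show (AffBC.bcMap h F).app W (b • QCoh.pullSec g ((pushforward f).obj F) hle s) = _
      rw [Scheme.Modules.Hom.app_smul, AffBC.bcMap_pullSec]
      have e1 : θ (b ⊗ₜ ι s) = b • pullHom h F hle (le_refl (f ⁻¹ᵁ V)) (ι s) :=
        LinearMap.liftBaseChange_tmul _ _ _ _
      rw [e1]
      refine Eq.trans ?_ (Scheme.Modules.map_smul G' (homOfLE hP) (f'.appLE W _ inf_le_right b) _).symm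
      refine (QCoh.pushforward_smul f' G' b _).trans ?_
      refine congrArg₂ (fun (c : Γ(X', f' ⁻¹ᵁ W)) (x : Γ(G', f' ⁻¹ᵁ W)) => c • x) ?_ ?_
      · exact congr($((Scheme.Hom.appLE_map f' inf_le_right (homOfLE hP).op).trans (Scheme.Hom.appLE_eq_app f')) b).symm
      · show G'.presheaf.map _ _ = G'.presheaf.map _ (G'.presheaf.map _ _)
        rw [← ConcreteCategory.comp_apply, ← Functor.map_comp]
        rfl
  have hcomp : Function.Bijective ((AffBC.bcMap h F).app W ∘ σ) := by
    rw [show ((AffBC.bcMap h F).app W ∘ σ) = r ∘ θ ∘ (ι.lTensor Γ(S', W)) from funext key]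
    exact hr.comp (Function.Bijective.comp (show Function.Bijective θ from ⟨hi, hs⟩) (LinearEquiv.bijective _))
  exact (Function.Bijective.of_comp_iff _ hσ).1 hcomp

/-- **Flat base change of direct images.** -/
theorem isIso_bcMap (h : IsPullback g' f' f g) [QuasiCompact f] [QuasiSeparated f] [Flat g]
    (F : X.Modules) [F.IsQuasicoherent] : IsIso (AffBC.bcMap h F) := by
  haveI : QuasiCompact f' := MorphismProperty.of_isPullback h ‹QuasiCompact f›
  haveI : QuasiSeparated f' := MorphismProperty.of_isPullback h ‹QuasiSeparated f›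
  haveI := QCoh.isQuasicoherent_pushforward f F
  haveI := FittSheaf.isQuasicoherent_pullback g ((pushforward f).obj F)
  haveI := FittSheaf.isQuasicoherent_pullback g' F
  haveI := QCoh.isQuasicoherent_pushforward f' ((pullback g').obj F)
  let ι := {p : S.affineOpens × S'.affineOpens // p.2.1 ≤ g ⁻¹ᵁ p.1.1}
  refine QCoh.isIso_of_bijective_on_cover (AffBC.bcMap h F) (fun p : ι => p.1.2.1) ?_ (fun p => p.1.2.2)
    fun p => bijective_bcMap_app h F p.1.1.2 p.1.2.2 p.2
  refine top_le_iff.1 fun y (_ : y ∈ (⊤ : S'.Opens)) => ?_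
  obtain ⟨_, ⟨V, hV, rfl⟩, hyV, -⟩ := S.isBasis_affineOpens.exists_subset_of_mem_open (Set.mem_univ (g y)) isOpen_univ
  obtain ⟨_, ⟨W, hW, rfl⟩, hyW, hWV⟩ := S'.isBasis_affineOpens.exists_subset_of_mem_open
    (show y ∈ ((g ⁻¹ᵁ V : S'.Opens) : Set S') from hyV) (g ⁻¹ᵁ V).2
  exact Opens.mem_iSup.2 ⟨⟨(⟨V, hV⟩, ⟨W, hW⟩), hWV⟩, hyW⟩

end GrothLib.FlatBC
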