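import Groth.Agent.Lib.FlatBC.Algebra
import Groth.Agent.Lib.AffBC.Basic
import Groth.Agent.Lib.BCCoh.PullSec
import Mathlib.AlgebraicGeometry.Morphisms.Flat
import Mathlib.AlgebraicGeometry.Morphisms.QuasiSeparated

/-!
# Flat base change of sections of quasi-coherent modules

For a cartesian square and an affine open `W` lying flat over an affine open `V` of the base, the sections of
the pullback over the preimage of a quasi-compact `U` are the base change of the sections over `U`.
-/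

set_option autoImplicit false
set_option linter.all false
set_option backward.isDefEq.respectTransparency false
set_option maxHeartbeats 1000000

universe u

open CategoryTheory AlgebraicGeometry Opposite TopologicalSpace TensorProduct
open Scheme.Modules (pullback pushforward)

noncomputable section

namespace GrothLib.FlatBC

variable {X S X' S' : Scheme.{u}} {f : X ⟶ S} {g : S' ⟶ S} {g' : X' ⟶ X} {f' : X' ⟶ S'}

/-- Sections as a module over the functions on an open of the base. -/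
def secM (f : X ⟶ S) (F : X.Modules) (V : S.Opens) (U : X.Opens) (hU : U ≤ f ⁻¹ᵁ V) :
    ModuleCat.{u} Γ(S, V) :=
  (ModuleCat.restrictScalars (f.appLE V U hU).hom).obj (ModuleCat.of Γ(X, U) Γ(F, U))

theorem secM_smul (f : X ⟶ S) (F : X.Modules) (V : S.Opens) (U : X.Opens) (hU : U ≤ f ⁻¹ᵁ V)
    (a : Γ(S, V)) (s : secM f F V U hU) :
    a • s = (f.appLE V U hU a • (show Γ(F, U) from s) : Γ(F, U)) := rfl

/-- Restriction of sections. -/
def resM (f : X ⟶ S) (F : X.Modules) (V : S.Opens) {U T : X.Opens} (hTU : T ≤ U) (hU : U ≤ f ⁻¹ᵁ V) :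
    secM f F V U hU →ₗ[Γ(S, V)] secM f F V T (hTU.trans hU) where
  toFun s := (show Γ(F, T) from F.presheaf.map (homOfLE hTU).op (show Γ(F, U) from s))
  map_add' x y := map_add (F.presheaf.map (homOfLE hTU).op).hom x y
  map_smul' a x := by
    refine (Scheme.Modules.map_smul F (homOfLE hTU) (f.appLE V U hU a) (show Γ(F, U) from x)).trans ?_
    exact congrArg (fun c : Γ(X, T) => (c • F.presheaf.map (homOfLE hTU).op (show Γ(F, U) from x) : Γ(F, T)))
      congr($(Scheme.Hom.appLE_map f hU (homOfLE hTU).op) a)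

/-- The trace on `X'` of an open of `X` over `W`. -/
def upU (g' : X' ⟶ X) (f' : X' ⟶ S') (W : S'.Opens) (U : X.Opens) : X'.Opens := g' ⁻¹ᵁ U ⊓ f' ⁻¹ᵁ W

variable (h : IsPullback g' f' f g) (F : X.Modules) {V : S.Opens} {W : S'.Opens} (hle : W ≤ g ⁻¹ᵁ V)

include h in
theorem appLE_comm {U : X.Opens} (hU : U ≤ f ⁻¹ᵁ V) (a : Γ(S, V)) :
    g'.appLE U (upU g' f' W U) inf_le_left (f.appLE V U hU a) =
      f'.appLE W (upU g' f' W U) inf_le_right (g.appLE V W hle a) := by
  show ((f.appLE V U hU) ≫ (g'.appLE U (upU g' f' W U) inf_le_left)) a =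
    ((g.appLE V W hle) ≫ (f'.appLE W (upU g' f' W U) inf_le_right)) a
  simp only [Scheme.Hom.appLE_comp_appLE, h.w]

/-- Pulling back sections, linearly. -/
def pullHom {U : X.Opens} (hU : U ≤ f ⁻¹ᵁ V) :
    letI : Module Γ(S, V) (secM f' ((pullback g').obj F) W (upU g' f' W U) inf_le_right) :=
      Module.compHom _ (g.appLE V W hle).hom
    secM f F V U hU →ₗ[Γ(S, V)] secM f' ((pullback g').obj F) W (upU g' f' W U) inf_le_right :=
  letI : Module Γ(S, V) (secM f' ((pullback g').obj F) W (upU g' f' W U) inf_le_right) :=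
    Module.compHom _ (g.appLE V W hle).hom
  { toFun := fun s => (show Γ((pullback g').obj F, upU g' f' W U) from
      BCCoh.pullRes g' F U (upU g' f' W U) inf_le_left s)
    map_add' := fun s t => BCCoh.pullRes_add g' F U _ inf_le_left s t
    map_smul' := fun a s => by
      refine (BCCoh.pullRes_smul g' F U _ inf_le_left (f.appLE V U hU a) s).trans ?_
      exact congrArg (fun c : Γ(X', upU g' f' W U) => (c • (show Γ((pullback g').obj F, upU g' f' W U) from
        BCCoh.pullRes g' F U (upU g' f' W U) inf_le_left s) : Γ((pullback g').obj F, upU g' f' W U)))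
        (appLE_comm h hle hU a) }

/-- The comparison map is injective. -/
def Inj {U : X.Opens} (hU : U ≤ f ⁻¹ᵁ V) : Prop :=
  letI : Algebra Γ(S, V) Γ(S', W) := (g.appLE V W hle).hom.toAlgebra
  letI : Module Γ(S, V) (secM f' ((pullback g').obj F) W (upU g' f' W U) inf_le_right) :=
    Module.compHom _ (g.appLE V W hle).hom
  haveI : IsScalarTower Γ(S, V) Γ(S', W) (secM f' ((pullback g').obj F) W (upU g' f' W U) inf_le_right) :=
    IsScalarTower.of_algebraMap_smul fun _ _ => rfl
  Function.Injective ((pullHom h F hle hU).liftBaseChange Γ(S', W))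

/-- The comparison map is surjective. -/
def Surj {U : X.Opens} (hU : U ≤ f ⁻¹ᵁ V) : Prop :=
  letI : Algebra Γ(S, V) Γ(S', W) := (g.appLE V W hle).hom.toAlgebra
  letI : Module Γ(S, V) (secM f' ((pullback g').obj F) W (upU g' f' W U) inf_le_right) :=
    Module.compHom _ (g.appLE V W hle).hom
  haveI : IsScalarTower Γ(S, V) Γ(S', W) (secM f' ((pullback g').obj F) W (upU g' f' W U) inf_le_right) :=
    IsScalarTower.of_algebraMap_smul fun _ _ => rfl
  Function.Surjective ((pullHom h F hle hU).liftBaseChange Γ(S', W))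

theorem pullHom_res {U T : X.Opens} (hTU : T ≤ U) (hU : U ≤ f ⁻¹ᵁ V) (s : secM f F V U hU) :
    resM f' ((pullback g').obj F) W (show upU g' f' W T ≤ upU g' f' W U from
        inf_le_inf_right _ (g'.preimage_mono hTU)) inf_le_right (pullHom h F hle hU s) =
      pullHom h F hle (hTU.trans hU) (resM f F V hTU hU s) :=
  BCCoh.pullRes_res g' F hTU inf_le_left inf_le_left _ s

include h in
/-- Affine opens. -/
theorem bij_affine [F.IsQuasicoherent] (hV : IsAffineOpen V) (hW : IsAffineOpen W) {U : X.Opens}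
    (hUa : IsAffineOpen U) (hU : U ≤ f ⁻¹ᵁ V) : Inj h F hle hU ∧ Surj h F hle hU := by
  set P := upU g' f' W U with hP
  have hUY : P = g' ⁻¹ᵁ U ⊓ f' ⁻¹ᵁ W := rfl
  have hPa : IsAffineOpen P := by
    haveI : IsAffine _ := hV
    haveI : IsAffine _ := hW
    haveI : IsAffine _ := hUa
    exact IsAffine.of_isIso (Scheme.Hom.isPullback_resLE h hle hU hUY).isoPullback.hom
  have hpo := (isIso_pushoutSection_iff h hle hU hUY).1
    (isIso_pushoutSection_of_isAffineOpen h hle hU hUY hV hW hUa)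
  letI : Algebra Γ(S, V) Γ(S', W) := (g.appLE V W hle).hom.toAlgebra
  letI : Algebra Γ(S, V) Γ(X, U) := (f.appLE V U hU).hom.toAlgebra
  letI : Algebra Γ(X, U) Γ(X', P) := (g'.appLE U P inf_le_left).hom.toAlgebra
  letI : Algebra Γ(S', W) Γ(X', P) := (f'.appLE W P inf_le_right).hom.toAlgebra
  letI : Algebra Γ(S, V) Γ(X', P) := (g.appLE V W hle ≫ f'.appLE W P inf_le_right).hom.toAlgebra
  haveI : IsScalarTower Γ(S, V) Γ(S', W) Γ(X', P) := .of_algebraMap_eq' rfl
  haveI : IsScalarTower Γ(S, V) Γ(X, U) Γ(X', P) := .of_algebraMap_eq fun a => (appLE_comm h hle hU a).symm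
  haveI : Algebra.IsPushout Γ(S, V) Γ(S', W) Γ(X, U) Γ(X', P) := by
    refine CommRingCat.isPushout_iff_isPushout.1 ?_
    first
      | exact hpo
      | exact hpo.flip
  let G' := (pullback g').obj F
  letI : Module Γ(X, U) Γ(G', P) := Module.compHom _ (g'.appLE U P inf_le_left).hom
  haveI : IsScalarTower Γ(X, U) Γ(X', P) Γ(G', P) := IsScalarTower.of_algebraMap_smul fun _ _ => rfl
  obtain ⟨p, hp, hpv⟩ := BCCoh.isBaseChange_pullRes g' F hUa hPa inf_le_left
  letI : Module Γ(S, V) (secM f' G' W P inf_le_right) := Module.compHom _ (g.appLE V W hle).hom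
  haveI : IsScalarTower Γ(S, V) Γ(S', W) (secM f' G' W P inf_le_right) :=
    IsScalarTower.of_algebraMap_smul fun _ _ => rfl
  letI : Module Γ(S, V) Γ(F, U) := Module.compHom _ (f.appLE V U hU).hom
  haveI : IsScalarTower Γ(S, V) Γ(X, U) Γ(F, U) := IsScalarTower.of_algebraMap_smul fun _ _ => rfl
  let κ := Algebra.IsPushout.cancelBaseChange Γ(S, V) Γ(S', W) Γ(X, U) Γ(X', P) Γ(F, U)
  let ι : Γ(S', W) ⊗[Γ(S, V)] Γ(F, U) → Γ(G', P) := fun z => hp.equiv (κ.symm z)
  have hι : Function.Bijective ι := hp.equiv.bijective.comp κ.symm.bijective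
  have key : ∀ z, (show Γ(G', P) from (pullHom h F hle hU).liftBaseChange Γ(S', W) z) = ι z := by
    intro z
    induction z using TensorProduct.induction_on with
    | zero =>
      have e1 : ι 0 = 0 := by simp [ι]
      rw [e1]; exact map_zero _
    | add x y hx hy =>
      have e1 : ι (x + y) = ι x + ι y := by simp [ι]
      rw [e1, ← hx, ← hy]; exact map_add _ x y
    | tmul b s =>
      have hk : ι (b ⊗ₜ s) = f'.appLE W P inf_le_right b • p s := by
        simp only [ι, κ, Algebra.IsPushout.cancelBaseChange_symm_tmul]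
        exact hp.equiv_tmul _ s
      rw [hk, hpv]
      exact (LinearMap.liftBaseChange_tmul _ (pullHom h F hle hU) b s :)
  unfold Inj Surj
  exact ⟨fun a b hab => hι.1 (((key a).symm.trans hab).trans (key b)),
    fun n => (hι.2 n).imp fun a ha => (key a).trans ha⟩

theorem res_pair_injective (f : X ⟶ S) (F : X.Modules) (V : S.Opens) {U₁ U₂ U : X.Opens} (h₁ : U₁ ≤ U) (h₂ : U₂ ≤ U)
    (hc : U ≤ U₁ ⊔ U₂) (hU : U ≤ f ⁻¹ᵁ V) :
    Function.Injective ((resM f F V h₁ hU).prod (resM f F V h₂ hU)) := by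
  intro a b hab
  have h1 := congrArg Prod.fst hab
  have h2 := congrArg Prod.snd hab
  exact TopCat.Sheaf.eq_of_locally_eq₂ ⟨F.presheaf, F.isSheaf⟩ (homOfLE h₁) (homOfLE h₂) hc (show Γ(F, U) from a) (show Γ(F, U) from b) h1 h2

/-- The difference on the overlap. -/
def diffM (f : X ⟶ S) (F : X.Modules) (V : S.Opens) {U₁ U₂ U : X.Opens} (h₁ : U₁ ≤ U) (h₂ : U₂ ≤ U)
    (hU : U ≤ f ⁻¹ᵁ V) :
    secM f F V U₁ (h₁.trans hU) × secM f F V U₂ (h₂.trans hU) →ₗ[Γ(S, V)]
      secM f F V (U₁ ⊓ U₂) (inf_le_left.trans (h₁.trans hU)) :=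
  (resM f F V inf_le_left (h₁.trans hU)).comp (LinearMap.fst _ _ _) -
    (resM f F V (inf_le_right : U₁ ⊓ U₂ ≤ U₂) (h₂.trans hU)).comp (LinearMap.snd _ _ _)

theorem res_pair_exact (f : X ⟶ S) (F : X.Modules) (V : S.Opens) {U₁ U₂ U : X.Opens} (h₁ : U₁ ≤ U) (h₂ : U₂ ≤ U)
    (hc : U ≤ U₁ ⊔ U₂) (hU : U ≤ f ⁻¹ᵁ V) :
    Function.Exact ((resM f F V h₁ hU).prod (resM f F V h₂ hU)) (diffM f F V h₁ h₂ hU) := by
  intro y
  constructor
  · intro hy
    have hy' : F.presheaf.map (homOfLE (inf_le_left : U₁ ⊓ U₂ ≤ U₁)).op (show Γ(F, U₁) from y.1) =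
        F.presheaf.map (homOfLE (inf_le_right : U₁ ⊓ U₂ ≤ U₂)).op (show Γ(F, U₂) from y.2) := sub_eq_zero.1 hy
    let sec : ∀ b : Bool, Γ(F, if b then U₁ else U₂) := fun b =>
      match b with
      | true => (show Γ(F, U₁) from y.1)
      | false => (show Γ(F, U₂) from y.2)
    obtain ⟨t, ht, -⟩ := TopCat.Sheaf.existsUnique_gluing' ⟨F.presheaf, F.isSheaf⟩
      (fun b : Bool => if b then U₁ else U₂) U
      (fun b => homOfLE (by cases b <;> simp [h₁, h₂]))
      (fun x hx => Opens.mem_iSup.2 ((hc hx).elim (fun hh => ⟨true, hh⟩) fun hh => ⟨false, hh⟩)) sec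
      (by
        rintro (_ | _) (_ | _)
        · rfl
        · have := congrArg (F.presheaf.map (homOfLE (le_of_eq (inf_comm U₂ U₁))).op) hy'
          rw [← ConcreteCategory.comp_apply, ← ConcreteCategory.comp_apply, ← Functor.map_comp,
            ← Functor.map_comp] at this
          exact this.symm
        · exact hy'
        · rfl)
    exact ⟨t, Prod.ext (ht true) (ht false)⟩
  · rintro ⟨x, rfl⟩
    refine sub_eq_zero.2 ?_
    show (F.presheaf.map _ ≫ F.presheaf.map _) x = (F.presheaf.map _ ≫ F.presheaf.map _) x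
    rw [← Functor.map_comp, ← Functor.map_comp]
    rfl

include h in
theorem inj_sup [F.IsQuasicoherent] (hflat : (g.appLE V W hle).hom.Flat) {U₁ U₂ : X.Opens}
    (hU : U₁ ⊔ U₂ ≤ f ⁻¹ᵁ V) (i₁ : Inj h F hle (le_sup_left.trans hU)) (i₂ : Inj h F hle (le_sup_right.trans hU)) :
    Inj h F hle hU := by
  letI : Algebra Γ(S, V) Γ(S', W) := (g.appLE V W hle).hom.toAlgebra
  haveI : Module.Flat Γ(S, V) Γ(S', W) := hflat
  letI : ∀ U, Module Γ(S, V) (secM f' ((pullback g').obj F) W (upU g' f' W U) inf_le_right) := fun _ =>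
    Module.compHom _ (g.appLE V W hle).hom
  haveI : ∀ U, IsScalarTower Γ(S, V) Γ(S', W) (secM f' ((pullback g').obj F) W (upU g' f' W U) inf_le_right) :=
    fun _ => IsScalarTower.of_algebraMap_smul fun _ _ => rfl
  unfold Inj at i₁ i₂ ⊢
  refine injective_lift (pullHom h F hle hU)
    ((pullHom h F hle (le_sup_left.trans hU)).prodMap (pullHom h F hle (le_sup_right.trans hU)))
    ((resM f F V le_sup_left hU).prod (resM f F V le_sup_right hU))
    ((resM f' ((pullback g').obj F) W (inf_le_inf_right _ (g'.preimage_mono le_sup_left)) inf_le_right).prod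
      (resM f' ((pullback g').obj F) W (inf_le_inf_right _ (g'.preimage_mono le_sup_right)) inf_le_right))
    (fun m => Prod.ext (pullHom_res h F hle le_sup_left hU m) (pullHom_res h F hle le_sup_right hU m))
    (res_pair_injective f F V le_sup_left le_sup_right le_rfl hU) (injective_lift_prod _ _ i₁ i₂)

include h in
theorem surj_sup [F.IsQuasicoherent] (hflat : (g.appLE V W hle).hom.Flat) {U₁ U₂ : X.Opens}
    (hU : U₁ ⊔ U₂ ≤ f ⁻¹ᵁ V) (s₁ : Surj h F hle (le_sup_left.trans hU)) (s₂ : Surj h F hle (le_sup_right.trans hU))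
    (i : Inj h F hle ((inf_le_left.trans le_sup_left).trans hU : U₁ ⊓ U₂ ≤ f ⁻¹ᵁ V)) :
    Surj h F hle hU := by
  letI : Algebra Γ(S, V) Γ(S', W) := (g.appLE V W hle).hom.toAlgebra
  haveI : Module.Flat Γ(S, V) Γ(S', W) := hflat
  letI : ∀ U, Module Γ(S, V) (secM f' ((pullback g').obj F) W (upU g' f' W U) inf_le_right) := fun _ =>
    Module.compHom _ (g.appLE V W hle).hom
  haveI : ∀ U, IsScalarTower Γ(S, V) Γ(S', W) (secM f' ((pullback g').obj F) W (upU g' f' W U) inf_le_right) :=
    fun _ => IsScalarTower.of_algebraMap_smul fun _ _ => rfl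
  unfold Surj at s₁ s₂ ⊢
  unfold Inj at i
  let G' := (pullback g').obj F
  have l₁ : upU g' f' W U₁ ≤ upU g' f' W (U₁ ⊔ U₂) := inf_le_inf_right _ (g'.preimage_mono le_sup_left)
  have l₂ : upU g' f' W U₂ ≤ upU g' f' W (U₁ ⊔ U₂) := inf_le_inf_right _ (g'.preimage_mono le_sup_right)
  have m₁ : upU g' f' W (U₁ ⊓ U₂) ≤ upU g' f' W U₁ := inf_le_inf_right _ (g'.preimage_mono inf_le_left)
  have m₂ : upU g' f' W (U₁ ⊓ U₂) ≤ upU g' f' W U₂ := inf_le_inf_right _ (g'.preimage_mono inf_le_right)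
  refine surjective_lift (pullHom h F hle hU)
    ((pullHom h F hle (le_sup_left.trans hU)).prodMap (pullHom h F hle (le_sup_right.trans hU)))
    (pullHom h F hle ((inf_le_left.trans le_sup_left).trans hU))
    ((resM f F V le_sup_left hU).prod (resM f F V le_sup_right hU))
    (diffM f F V le_sup_left le_sup_right hU)
    ((resM f' G' W l₁ inf_le_right).prod (resM f' G' W l₂ inf_le_right))
    ((resM f' G' W m₁ inf_le_right).comp (LinearMap.fst _ _ _) -
      (resM f' G' W m₂ inf_le_right).comp (LinearMap.snd _ _ _))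
    (fun m => Prod.ext (pullHom_res h F hle le_sup_left hU m) (pullHom_res h F hle le_sup_right hU m))
    (fun m => ?_) (res_pair_exact f F V le_sup_left le_sup_right le_rfl hU)
    (res_pair_injective f' G' W l₁ l₂ ?_ inf_le_right) (fun n => ?_)
    (surjective_lift_prod _ _ s₁ s₂) i
  · refine (congrArg₂ (· - ·) (pullHom_res h F hle inf_le_left (le_sup_left.trans hU) m.1)
      (pullHom_res h F hle inf_le_right (le_sup_right.trans hU) m.2)).trans ?_
    exact (map_sub (pullHom h F hle ((inf_le_left.trans le_sup_left).trans hU)) _ _).symm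
  · rintro x ⟨hx, hx'⟩
    exact hx.elim (fun hh => Or.inl ⟨hh, hx'⟩) fun hh => Or.inr ⟨hh, hx'⟩
  · refine sub_eq_zero.2 ?_
    show (G'.presheaf.map _ ≫ G'.presheaf.map _) n = (G'.presheaf.map _ ≫ G'.presheaf.map _) n
    rw [← Functor.map_comp, ← Functor.map_comp]
    rfl

include h in
theorem bij_bot (U : X.Opens) (e : U = ⊥) [F.IsQuasicoherent] (hV : IsAffineOpen V) (hW : IsAffineOpen W)
    (hU : U ≤ f ⁻¹ᵁ V) : Inj h F hle hU ∧ Surj h F hle hU := by
  subst e
  exact bij_affine h F hle hV hW (isAffineOpen_bot X) hU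

include h in
theorem inj_of_isCompact [F.IsQuasicoherent] (hV : IsAffineOpen V) (hW : IsAffineOpen W)
    (hflat : (g.appLE V W hle).hom.Flat) {U : X.Opens} (hUc : IsCompact (U : Set X)) (hU : U ≤ f ⁻¹ᵁ V) :
    Inj h F hle hU := by
  revert hU
  refine compact_open_induction_on (P := fun U => ∀ hU : U ≤ f ⁻¹ᵁ V, Inj h F hle hU) U hUc
    (fun hU => (bij_bot h F hle ⊥ rfl hV hW hU).1) ?_
  intro T hT A ih hU
  exact inj_sup h F hle hflat hU (ih _) (bij_affine h F hle hV hW A.2 _).1

include h in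
/-- **Flat base change of sections.** -/
theorem bij_of_isCompact [F.IsQuasicoherent] (hV : IsAffineOpen V) (hW : IsAffineOpen W)
    (hflat : (g.appLE V W hle).hom.Flat) (hqs : IsQuasiSeparated ((f ⁻¹ᵁ V : X.Opens) : Set X))
    {U : X.Opens} (hUc : IsCompact (U : Set X)) (hU : U ≤ f ⁻¹ᵁ V) :
    Inj h F hle hU ∧ Surj h F hle hU := by
  refine ⟨inj_of_isCompact h F hle hV hW hflat hUc hU, ?_⟩
  revert hU
  refine compact_open_induction_on (P := fun U => ∀ hU : U ≤ f ⁻¹ᵁ V, Surj h F hle hU) U hUc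
    (fun hU => (bij_bot h F hle ⊥ rfl hV hW hU).2) ?_
  intro T hT A ih hU
  refine surj_sup h F hle hflat hU (ih _) (bij_affine h F hle hV hW A.2 _).2
    (inj_of_isCompact h F hle hV hW hflat ?_ _)
  exact hqs T A (fun x hx => hU (Or.inl hx)) T.2 hT (fun x hx => hU (Or.inr hx)) A.1.2 A.2.isCompact

end GrothLib.FlatBC
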