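import Groth.Agent.Lib.ParaPair.Descent
import Groth.Agent.Lib.VA.UnitGen
import Groth.Agent.Lib.Ample.Product

/-! # Descending invertible modules which become trivial after a faithfully flat base change -/

set_option autoImplicit false
set_option linter.all false
set_option backward.isDefEq.respectTransparency false
set_option maxHeartbeats 1000000

universe u

open CategoryTheory CategoryTheory.Limits AlgebraicGeometry Opposite TopologicalSpace GrothLib.InvExt
open Scheme.Modules (pushforward)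
open scoped TensorProduct

namespace GrothLib.FlatBC

variable {X Y Y' : Scheme.{u}}

/-- The structure sheaf is the direct image. -/
theorem nonempty_structure_iso_pushforward (f : X ⟶ Y) (hf : ∀ V : Y.Opens, Function.Bijective (f.app V)) :
    Nonempty (Coh.structureModule Y ≅ (pushforward f).obj (Coh.structureModule X)) := by
  let φ : Coh.structureModule Y ⟶ (pushforward f).obj (Coh.structureModule X) :=
    SheafOfModules.unitToPushforwardObjUnit f.toRingCatSheafHom
  haveI : IsIso φ := by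
    rw [Scheme.Modules.Hom.isIso_iff_isIso_app]
    intro W
    rw [ConcreteCategory.isIso_iff_bijective]
    exact hf W
  exact ⟨asIso φ⟩

theorem qcoh_of_invertible {M : X.Modules} (hM : PicF.IsInvertible M) : M.IsQuasicoherent :=
  (Euler.isCoh_of_isFinLocFree (Euler.isFinLocFree_of_isInvertible hM)).1

variable (f : X ⟶ Y) [QuasiCompact f] [QuasiSeparated f] (hf : ∀ V : Y.Opens, Function.Bijective (f.app V))
  (g : Y' ⟶ Y) [Flat g] [Surjective g] (L : X.Modules) (hL : PicF.IsInvertible L)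
  (htriv : Nonempty ((Scheme.Modules.pullback (Limits.pullback.fst f g)).obj L ≅ Coh.structureModule (Limits.pullback f g)))

include hf hL htriv

theorem nonempty_pullback_pushforward_iso :
    Nonempty ((Scheme.Modules.pullback g).obj ((pushforward f).obj L) ≅ Coh.structureModule Y') := by
  obtain ⟨ψ⟩ := htriv
  have H : IsPullback (pullback.fst f g) (pullback.snd f g) f g := IsPullback.of_hasPullback _ _
  haveI := qcoh_of_invertible hL
  haveI := qcoh_of_invertible (ParaPair.isInvertible_structure X)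
  haveI := isIso_bcMap H L
  haveI := isIso_bcMap H (Coh.structureModule X)
  obtain ⟨u⟩ := Ample.nonempty_pullback_structureModule (Limits.pullback.fst f g)
  obtain ⟨v⟩ := Ample.nonempty_pullback_structureModule g
  obtain ⟨w⟩ := nonempty_structure_iso_pushforward f hf
  exact ⟨asIso (AffBC.bcMap H L) ≪≫ (pushforward (pullback.snd f g)).mapIso (ψ ≪≫ u.symm) ≪≫
    (asIso (AffBC.bcMap H (Coh.structureModule X))).symm ≪≫ (Scheme.Modules.pullback g).mapIso w.symm ≪≫ v⟩

theorem isInvertible_pushforward [QuasiCompact g] : PicF.IsInvertible ((pushforward f).obj L) := by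
  haveI := qcoh_of_invertible hL
  haveI : ((pushforward f).obj L).IsQuasicoherent := QCoh.isQuasicoherent_pushforward f L
  obtain ⟨φ⟩ := nonempty_pullback_pushforward_iso f hf g L hL htriv
  exact ParaPair.isInvertible_of_pullback g _
    (ParaPair.isInvertible_of_iso φ (ParaPair.isInvertible_structure Y'))

/-- A generator of the direct image generates. -/
theorem isGen_of_isGen_pushforward {V : Y.Opens} (hV : IsAffineOpen V) (e : Γ((pushforward f).obj L, V))
    (he : IsGen ((pushforward f).obj L) V e) : IsGen L (f ⁻¹ᵁ V) (show Γ(L, f ⁻¹ᵁ V) from e) := by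
  obtain ⟨ψ⟩ := htriv
  haveI := qcoh_of_invertible hL
  let g' := Limits.pullback.fst f g
  let f' := Limits.pullback.snd f g
  have H : IsPullback g' f' f g := IsPullback.of_hasPullback _ _
  let e₀ : Γ(L, f ⁻¹ᵁ V) := e
  let G' := (Scheme.Modules.pullback g').obj L
  let s₀ : Γ(G', (⊤ : (Limits.pullback f g).Opens)) := ψ.inv.app ⊤ (1 : Γ(Limits.pullback f g, ⊤))
  have hs₀ : IsGen G' ⊤ s₀ := VA.isGen_map_iso ψ.inv (isGen_one _)
  have loc : ∀ x : X, x ∈ f ⁻¹ᵁ V → ∃ (T : X.Opens) (hT : T ≤ f ⁻¹ᵁ V), x ∈ T ∧ IsGen L T (mres L hT e₀) := by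
    intro x hx
    haveI : Surjective g' := MorphismProperty.of_isPullback H.flip ‹Surjective g›
    obtain ⟨x', hx'⟩ := g'.surjective x
    have hgy : g (f' x') = f x := by
      rw [← Scheme.Hom.comp_apply, ← H.w, Scheme.Hom.comp_apply, hx']
    obtain ⟨_, ⟨W, hW, rfl⟩, hyW, hWV⟩ := Y'.isBasis_affineOpens.exists_subset_of_mem_open
      (show f' x' ∈ ((g ⁻¹ᵁ V : Y'.Opens) : Set Y') from by show g (f' x') ∈ V; rw [hgy]; exact hx) (g ⁻¹ᵁ V).2
    have hflat : (g.appLE V W hWV).hom.Flat := g.flat_appLE hV hW hWV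
    have hUc : IsCompact ((f ⁻¹ᵁ V : X.Opens) : Set X) := f.isCompact_preimage hV.isCompact
    obtain ⟨-, hs⟩ := bij_of_isCompact H L hWV hV hW hflat (f.isQuasiSeparated_preimage hV.isQuasiSeparated)
      hUc le_rfl
    let P := upU g' f' W (f ⁻¹ᵁ V)
    have hxP : x' ∈ P := ⟨by show g' x' ∈ f ⁻¹ᵁ V; rw [hx']; exact hx, hyW⟩
    let E : Γ(G', P) := BCCoh.pullRes g' L (f ⁻¹ᵁ V) P inf_le_left e₀
    have hbs : ∃ b : Γ(Y', W), mres G' le_top s₀ = f'.appLE W P inf_le_right b • E := by
      letI : Algebra Γ(Y, V) Γ(Y', W) := (g.appLE V W hWV).hom.toAlgebra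
      letI : Module Γ(Y, V) (secM f' G' W P inf_le_right) := Module.compHom _ (g.appLE V W hWV).hom
      haveI : IsScalarTower Γ(Y, V) Γ(Y', W) (secM f' G' W P inf_le_right) :=
        IsScalarTower.of_algebraMap_smul fun _ _ => rfl
      unfold Surj at hs
      obtain ⟨z, hz⟩ := hs (mres G' le_top s₀ : Γ(G', P))
      suffices h : ∀ z, ∃ b : Γ(Y', W),
          (show Γ(G', P) from (pullHom H L hWV (le_refl (f ⁻¹ᵁ V))).liftBaseChange Γ(Y', W) z) =
            f'.appLE W P inf_le_right b • E by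
        obtain ⟨b, hb⟩ := h z
        exact ⟨b, hz.symm.trans hb⟩
      intro z
      induction z using TensorProduct.induction_on with
      | zero => exact ⟨0, (map_zero _).trans (by rw [map_zero, zero_smul])⟩
      | add a b ha hb =>
        obtain ⟨ca, hca⟩ := ha
        obtain ⟨cb, hcb⟩ := hb
        refine ⟨ca + cb, ?_⟩
        rw [map_add, map_add, add_smul, ← hca, ← hcb]
      | tmul b m =>
        obtain ⟨a, ha⟩ := he.exists_smul_eq (le_refl V) (show Γ((pushforward f).obj L, V) from m)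
        rw [mres_self] at ha
        have hm : (show Γ(L, f ⁻¹ᵁ V) from m) = f.appLE V (f ⁻¹ᵁ V) le_rfl a • e₀ := by
          refine ha.trans ((QCoh.pushforward_smul f L a e).trans ?_)
          rw [← Scheme.Hom.appLE_eq_app]
        refine ⟨b * g.appLE V W hWV a, ?_⟩
        refine ((LinearMap.liftBaseChange_tmul _ (pullHom H L hWV (le_refl (f ⁻¹ᵁ V))) b m :)).trans ?_
        show f'.appLE W P inf_le_right b • BCCoh.pullRes g' L (f ⁻¹ᵁ V) P inf_le_left (show Γ(L, f ⁻¹ᵁ V) from m) = _
        rw [hm, BCCoh.pullRes_smul, smul_smul, appLE_comm H hWV le_rfl a, ← map_mul]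
    obtain ⟨b, hb⟩ := hbs
    obtain ⟨c, hc⟩ := hs₀.exists_smul_eq (le_top : P ≤ ⊤) E
    have hcu : IsUnit c := by
      rw [hc, smul_smul] at hb
      exact IsUnit.of_mul_eq_one_right _ (hs₀.smul_left_injective le_top (by rw [one_smul]; exact hb.symm))
    obtain ⟨T₁, t₁, hxT₁, ht₁⟩ := exists_gen_nhd hL x
    let T := T₁ ⊓ f ⁻¹ᵁ V
    have hxT : x ∈ T := ⟨hxT₁, hx⟩
    obtain ⟨a, ha⟩ := ht₁.exists_smul_eq (inf_le_left : T ≤ T₁) (mres L inf_le_right e₀)
    let T' := g' ⁻¹ᵁ T ⊓ P
    have hxT' : x' ∈ T' := ⟨by show g' x' ∈ T; rw [hx']; exact hxT, hxP⟩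
    obtain ⟨d, hd⟩ := hs₀.exists_smul_eq (le_top : T' ≤ ⊤) (BCCoh.pullRes g' L T T' inf_le_left (mres L inf_le_left t₁))
    have h1 : mres G' (inf_le_right : T' ≤ P) E = BCCoh.pullRes g' L T T' inf_le_left (mres L inf_le_right e₀) :=
      BCCoh.pullRes_res g' L inf_le_right _ _ _ _
    rw [ha, BCCoh.pullRes_smul, hd, hc, mres_smul, mres_mres, smul_smul] at h1
    have h2 := hs₀.smul_left_injective le_top h1
    have hau : IsUnit (g'.appLE T T' inf_le_left a) := isUnit_of_mul_isUnit_left (y := d) (by rw [← h2]; exact hcu.map ((Limits.pullback f g).presheaf.map (homOfLE (inf_le_right : T' ≤ P)).op).hom)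
    have hagerm : IsUnit (X.presheaf.germ T x hxT a) := by
      subst hx'
      refine (isUnit_map_iff (g'.stalkMap x').hom _).1 ?_
      rw [Scheme.Hom.germ_stalkMap_apply]
      have h3 := hau.map ((Limits.pullback f g).presheaf.germ T' x' hxT').hom
      rw [Scheme.Hom.appLE, CommRingCat.comp_apply, TopCat.Presheaf.germ_res_apply] at h3
      exact h3
    let T₀ := X.basicOpen a
    have hT₀ : T₀ ≤ T := X.basicOpen_le a
    refine ⟨T₀, hT₀.trans inf_le_right, (X.mem_basicOpen a x hxT).2 hagerm, ?_⟩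
    rw [← mres_mres L (inf_le_right : T ≤ f ⁻¹ᵁ V) hT₀, ha, mres_smul, mres_mres]
    exact (ht₁.restrict _).smul_unit (RingedSpace.isUnit_res_basicOpen _ a)
  choose T hT hxT hgen using fun x : {x : X // x ∈ f ⁻¹ᵁ V} => loc x.1 x.2
  exact isGen_of_cover T hT (fun x hx => Opens.mem_iSup.2 ⟨⟨x, hx⟩, hxT _⟩) hgen

theorem isIso_counit [QuasiCompact g] :
    IsIso ((Scheme.Modules.pullbackPushforwardAdjunction f).counit.app L) := by
  have hM := isInvertible_pushforward f hf g L hL htriv
  set M := (pushforward f).obj L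
  let adj := Scheme.Modules.pullbackPushforwardAdjunction f
  haveI := qcoh_of_invertible hL
  haveI := qcoh_of_invertible (RelProjK.isInvertible_pullback f hM)
  haveI : ((pushforward f ⋙ Scheme.Modules.pullback f).obj L).IsQuasicoherent :=
    qcoh_of_invertible (RelProjK.isInvertible_pullback f hM)
  haveI : ((𝟭 X.Modules).obj L).IsQuasicoherent := qcoh_of_invertible hL
  let ι := {p : X.affineOpens × Y.affineOpens // p.1.1 ≤ f ⁻¹ᵁ p.2.1 ∧ ∃ e : Γ(M, p.2.1), IsGen M p.2.1 e}
  refine QCoh.isIso_of_bijective_on_cover (adj.counit.app L) (fun p : ι => p.1.1.1) ?_ (fun p => p.1.1.2) fun p => ?_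
  · refine top_le_iff.1 fun x (_ : x ∈ (⊤ : X.Opens)) => ?_
    obtain ⟨V₁, e₁, hxV₁, he₁⟩ := exists_gen_nhd hM (f x)
    obtain ⟨_, ⟨V, hV, rfl⟩, hxV, hVle⟩ := Y.isBasis_affineOpens.exists_subset_of_mem_open
      (show f x ∈ (V₁ : Set Y) from hxV₁) V₁.2
    obtain ⟨_, ⟨A, hA, rfl⟩, hxA, hAle⟩ := X.isBasis_affineOpens.exists_subset_of_mem_open
      (show x ∈ ((f ⁻¹ᵁ V : X.Opens) : Set X) from hxV) (f ⁻¹ᵁ V).2
    exact Opens.mem_iSup.2 ⟨⟨(⟨A, hA⟩, ⟨V, hV⟩), hAle, mres M hVle e₁, he₁.restrict hVle⟩, hxA⟩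
  · obtain ⟨⟨A, V⟩, hAV, e, he⟩ := p
    have hgen := isGen_of_isGen_pushforward f hf g L hL htriv V.2 e he
    have hP := VA.isGen_unit f hM he
    have htri : (adj.counit.app L).app (f ⁻¹ᵁ V.1) ((adj.unit.app M).app V.1 e) = (show Γ(L, f ⁻¹ᵁ V.1) from e) := by
      have h4 := congrArg (fun k : M ⟶ M => k.app V.1 e) (adj.right_triangle_components L)
      exact h4
    have key : (fun c : Γ(X, A.1) => c • mres L hAV (show Γ(L, f ⁻¹ᵁ V.1) from e)) =
        ((adj.counit.app L).app A.1).hom ∘ fun c : Γ(X, A.1) => c • mres _ hAV ((adj.unit.app M).app V.1 e) := by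
      funext c
      show _ = (adj.counit.app L).app A.1 (c • _)
      rw [Scheme.Modules.Hom.app_smul]
      congr 1
      refine (congrArg (mres L hAV) htri.symm).trans ?_
      exact (congr($((adj.counit.app L).mapPresheaf.naturality (homOfLE hAV).op) ((adj.unit.app M).app V.1 e))).symm
    exact (Function.Bijective.of_comp_iff _ (hP A.1 hAV)).1 (key ▸ hgen A.1 hAV)

end GrothLib.FlatBC
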