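import Mathlib.RingTheory.Flat.Basic
import Mathlib.RingTheory.IsTensorProduct
import Mathlib.LinearAlgebra.TensorProduct.Prod

/-! # Descending bijectivity of comparison maps along left exact sequences -/

open TensorProduct

namespace GrothLib.FlatBC

variable {A B : Type*} [CommRing A] [CommRing B] [Algebra A B]
  {M M₁ M₂ : Type*} [AddCommGroup M] [AddCommGroup M₁] [AddCommGroup M₂]
  [Module A M] [Module A M₁] [Module A M₂]
  {N N₁ N₂ : Type*} [AddCommGroup N] [AddCommGroup N₁] [AddCommGroup N₂]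
  [Module A N] [Module A N₁] [Module A N₂] [Module B N] [Module B N₁] [Module B N₂]
  [IsScalarTower A B N] [IsScalarTower A B N₁] [IsScalarTower A B N₂]

/-- The comparison maps are natural. -/
theorem lift_natural (p : M →ₗ[A] N) (p₁ : M₁ →ₗ[A] N₁) (r : M →ₗ[A] M₁) (s : N →ₗ[B] N₁)
    (hc : ∀ m, s (p m) = p₁ (r m)) (z : B ⊗[A] M) :
    s (p.liftBaseChange B z) = p₁.liftBaseChange B (r.baseChange B z) := by
  induction z using TensorProduct.induction_on with
  | zero => simp
  | add x y hx hy => simp [hx, hy]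
  | tmul b m => simp [hc]

/-- Injectivity descends along an injection. -/
theorem injective_lift [Module.Flat A B] (p : M →ₗ[A] N) (p₁ : M₁ →ₗ[A] N₁) (r : M →ₗ[A] M₁) (s : N →ₗ[B] N₁)
    (hc : ∀ m, s (p m) = p₁ (r m)) (hr : Function.Injective r)
    (h₁ : Function.Injective (p₁.liftBaseChange B)) : Function.Injective (p.liftBaseChange B) := by
  intro x y hxy
  have h := congrArg s hxy
  rw [lift_natural p p₁ r s hc, lift_natural p p₁ r s hc] at h
  have h' := h₁ h
  rw [LinearMap.baseChange_eq_ltensor] at h'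
  exact Module.Flat.lTensor_preserves_injective_linearMap r hr h'

/-- Surjectivity descends along a left exact sequence. -/
theorem surjective_lift [Module.Flat A B] (p : M →ₗ[A] N) (p₁ : M₁ →ₗ[A] N₁) (p₂ : M₂ →ₗ[A] N₂)
    (r : M →ₗ[A] M₁) (d : M₁ →ₗ[A] M₂) (s : N →ₗ[B] N₁) (e : N₁ →ₗ[B] N₂)
    (hc : ∀ m, s (p m) = p₁ (r m)) (hc' : ∀ m, e (p₁ m) = p₂ (d m))
    (hrd : Function.Exact r d) (hs : Function.Injective s) (hes : ∀ n, e (s n) = 0)
    (h₁ : Function.Surjective (p₁.liftBaseChange B)) (h₂ : Function.Injective (p₂.liftBaseChange B)) :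
    Function.Surjective (p.liftBaseChange B) := by
  intro n
  obtain ⟨a, ha⟩ := h₁ (s n)
  have h : d.baseChange B a = 0 := h₂ (by rw [← lift_natural p₁ p₂ d e hc', ha, hes, map_zero])
  have hex := Module.Flat.lTensor_exact B hrd
  rw [LinearMap.baseChange_eq_ltensor] at h
  obtain ⟨c, hc₀⟩ := (hex a).1 h
  refine ⟨c, hs ?_⟩
  rw [lift_natural p p₁ r s hc, LinearMap.baseChange_eq_ltensor, hc₀, ha]

/-- Comparison map of a product. -/
theorem lift_prod (p₁ : M₁ →ₗ[A] N₁) (p₂ : M₂ →ₗ[A] N₂) (z : B ⊗[A] (M₁ × M₂)) :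
    (p₁.prodMap p₂).liftBaseChange B z =
      (p₁.liftBaseChange B (TensorProduct.prodRight A B B M₁ M₂ z).1,
        p₂.liftBaseChange B (TensorProduct.prodRight A B B M₁ M₂ z).2) := by
  induction z using TensorProduct.induction_on with
  | zero => simp [Prod.zero_eq_mk]
  | add x y hx hy => simp [hx, hy]
  | tmul b m => simp

theorem injective_lift_prod (p₁ : M₁ →ₗ[A] N₁) (p₂ : M₂ →ₗ[A] N₂)
    (h₁ : Function.Injective (p₁.liftBaseChange B)) (h₂ : Function.Injective (p₂.liftBaseChange B)) :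
    Function.Injective ((p₁.prodMap p₂).liftBaseChange B) := fun x y h => by
  rw [lift_prod, lift_prod, Prod.mk.injEq] at h
  exact (TensorProduct.prodRight A B B M₁ M₂).injective (Prod.ext (h₁ h.1) (h₂ h.2))

theorem surjective_lift_prod (p₁ : M₁ →ₗ[A] N₁) (p₂ : M₂ →ₗ[A] N₂)
    (h₁ : Function.Surjective (p₁.liftBaseChange B)) (h₂ : Function.Surjective (p₂.liftBaseChange B)) :
    Function.Surjective ((p₁.prodMap p₂).liftBaseChange B) := fun ⟨n₁, n₂⟩ => by
  obtain ⟨a, ha⟩ := h₁ n₁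
  obtain ⟨b, hb⟩ := h₂ n₂
  refine ⟨(TensorProduct.prodRight A B B M₁ M₂).symm (a, b), ?_⟩
  rw [lift_prod, LinearEquiv.apply_symm_apply, ha, hb]

end GrothLib.FlatBC
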